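import Mathlib.LinearAlgebra.Matrix.Adjugate
import Mathlib.LinearAlgebra.Matrix.ToLin

/-!
# Determinants of coefficient matrices expressing one sequence in another
-/

set_option autoImplicit false
universe u

namespace Groth.Agent.InvGor

open Matrix

variable {L : Type u} [CommRing L] {n : ℕ}

/-- Cramer: `det M • x` lies in any ideal containing the entries of `M x`. -/
theorem det_mul_mem (M : Matrix (Fin n) (Fin n) L) (x : Fin n → L) {J : Ideal L}
    (h : ∀ i, (M *ᵥ x) i ∈ J) (j : Fin n) : M.det * x j ∈ J := by
  have key : M.adjugate *ᵥ (M *ᵥ x) = M.det • x := by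
    rw [mulVec_mulVec, adjugate_mul, smul_mulVec, one_mulVec]
  have h' : M.det * x j = (M.adjugate *ᵥ (M *ᵥ x)) j := by rw [key]; simp
  rw [h']
  exact Submodule.sum_mem (t := Finset.univ) J fun l _ => J.mul_mem_left (M.adjugate j l) (h l)

/-- The determinant of a coefficient matrix is well defined modulo the ideal of `f`, provided each
`f i` is a non-zero-divisor modulo the others. -/
theorem det_sub_det_mem (f x : Fin n → L)
    (hperm : ∀ i z, f i * z ∈ Ideal.span (f '' {i}ᶜ) → z ∈ Ideal.span (f '' {i}ᶜ))
    (a a' : Matrix (Fin n) (Fin n) L) (ha : a *ᵥ x = f) (ha' : a' *ᵥ x = f) :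
    a.det - a'.det ∈ Ideal.span (Set.range f) := by
  classical
  suffices h : ∀ s : Finset (Fin n),
      a.det - (Matrix.of fun i => if i ∈ s then a' i else a i).det ∈ Ideal.span (Set.range f) by
    convert h Finset.univ using 4
    ext i j
    simp
  intro s
  induction s using Finset.induction with
  | empty =>
    convert Ideal.zero_mem _
    rw [sub_eq_zero]
    congr 1
  | @insert i s hi ih =>
    set H : Matrix (Fin n) (Fin n) L := Matrix.of fun l => if l ∈ s then a' l else a l with hH
    have hHi : H i = a i := by funext j; simp [hH, Matrix.of_apply, hi]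
    have hins : (Matrix.of fun l => if l ∈ insert i s then a' l else a l) = H.updateRow i (a' i) := by
      ext l j
      by_cases hl : l = i
      · subst hl; simp
      · simp [hH, updateRow_apply, hl]
    set H' := H.updateRow i (a' i - a i) with hH'
    have hdet : (H.updateRow i (a' i)).det = H.det + H'.det := by
      have := det_updateRow_add H i (a i) (a' i - a i)
      rw [add_sub_cancel] at this
      rw [this, ← hHi, updateRow_eq_self]
      rw [hHi]
    have hHx : ∀ l, (H *ᵥ x) l = f l := fun l => by
      by_cases hl : l ∈ s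
      · rw [← congr_fun ha' l]; simp [mulVec, hH, hl]
      · rw [← congr_fun ha l]; simp [mulVec, hH, hl]
    have hH'x : ∀ l, (H' *ᵥ x) l ∈ Ideal.span (f '' {i}ᶜ) := fun l => by
      by_cases hl : l = i
      · subst hl
        have : (H' *ᵥ x) l = 0 := by
          have h1 : (a' *ᵥ x) l - (a *ᵥ x) l = 0 := by rw [ha, ha', sub_self]
          rw [← h1]
          change (H.updateRow l (a' l - a l)) l ⬝ᵥ x = a' l ⬝ᵥ x - a l ⬝ᵥ x
          rw [updateRow_self, sub_dotProduct]
        rw [this]; exact Ideal.zero_mem _
      · have : (H' *ᵥ x) l = f l := by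
          rw [← hHx l]
          change (H.updateRow i (a' i - a i)) l ⬝ᵥ x = H l ⬝ᵥ x
          rw [updateRow_ne hl]
        rw [this]
        exact Ideal.subset_span ⟨l, hl, rfl⟩
    have hmem : f i * H'.det ∈ Ideal.span (f '' {i}ᶜ) := by
      rw [← congr_fun ha i, mulVec, dotProduct, Finset.sum_mul]
      refine Submodule.sum_mem _ fun j _ => ?_
      rw [mul_assoc, mul_comm (x j)]
      exact Ideal.mul_mem_left _ _ (det_mul_mem H' x hH'x j)
    have := Ideal.span_mono (Set.image_subset_range f _) (hperm i _ hmem)
    rw [hins, hdet, ← sub_sub]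
    exact sub_mem ih this

end Groth.Agent.InvGor
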