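import Groth.Agent.GrBass.Shift
import Groth.Agent.GrLC.Summand
import Groth.Agent.Gor.InjDim
import Groth.Agent.Gor.Ring
import Groth.Agent.Depth.CM

/-!
# Gorenstein at the vertex implies Gorenstein everywhere for graded rings
-/

set_option autoImplicit false
set_option linter.unusedSectionVars false
universe u

open CategoryTheory IsLocalRing

noncomputable section

namespace Groth.Agent.InvGor

variable {ι : Type} [AddCommGroup ι] [DecidableEq ι] [Module.Free ℤ ι] [Module.Finite ℤ ι]
variable {R : Type u} [CommRing R] [IsNoetherianRing R] (𝒜 : ι → AddSubgroup R) [GradedRing 𝒜]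

theorem isGorensteinRing_of_graded (m : Ideal R) [m.IsPrime]
    (hle : ∀ P : Ideal R, P.IsPrime → P.IsHomogeneous 𝒜 → P ≤ m)
    (hm : LocCoh.IsGorensteinLocalRing (Localization.AtPrime m)) : LocCoh.IsGorensteinRing R := by
  refine { isGorensteinLocalRing_localization := fun p _ => ?_ }
  set P := (Ideal.homogeneousCore 𝒜 p).toIdeal with hPdef
  have hhom : P.IsHomogeneous 𝒜 := (Ideal.homogeneousCore 𝒜 p).isHomogeneous
  have hPp : P ≤ p := Ideal.toIdeal_homogeneousCore_le 𝒜 p
  haveI hP : P.IsPrime := by
    refine GrLC.isPrime_of_homogeneous (𝒜 := 𝒜) hhom ?_ ?_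
    · exact fun h => ‹p.IsPrime›.ne_top (eq_top_iff.2 (h ▸ hPp))
    · intro i j x y hx hy hxy
      exact (Ideal.IsPrime.mem_or_mem ‹p.IsPrime› (hPp hxy)).imp
        (fun h => Ideal.mem_homogeneousCore_of_homogeneous_of_mem ⟨i, hx⟩ h)
        (fun h => Ideal.mem_homogeneousCore_of_homogeneous_of_mem ⟨j, hy⟩ h)
  have hdisj : Disjoint (m.primeCompl : Set R) (P : Set R) :=
    Set.disjoint_left.2 fun x hx hxP => hx (hle P hP hhom hxP)
  -- Gorenstein at the core
  haveI hGP : LocCoh.IsGorensteinLocalRing (Localization.AtPrime P) := by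
    haveI := hm
    let Rm := Localization.AtPrime m
    haveI hq : (P.map (algebraMap R Rm)).IsPrime :=
      IsLocalization.isPrime_of_isPrime_disjoint m.primeCompl Rm P hP hdisj
    have hc : (P.map (algebraMap R Rm)).comap (algebraMap R Rm) = P :=
      IsLocalization.under_map_of_isPrime_disjoint m.primeCompl Rm hP hdisj
    haveI := IsLocalization.isLocalization_isLocalization_atPrime_isLocalization m.primeCompl
      (Localization.AtPrime (P.map (algebraMap R Rm))) (P.map (algebraMap R Rm))
    haveI : IsLocalization.AtPrime (Localization.AtPrime (P.map (algebraMap R Rm))) P := by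
      simpa only [hc] using! this
    haveI := (Gor.Ring.isGorensteinRing_of_local Rm).isGorensteinLocalRing_localization
      (P.map (algebraMap R Rm))
    exact Gor.FlatLocal.gorenstein_of_ringEquiv
      (IsLocalization.algEquiv P.primeCompl (Localization.AtPrime (P.map (algebraMap R Rm)))
        (Localization.AtPrime P)).toRingEquiv
  haveI : (p.map (Ideal.Quotient.mk P)).IsPrime :=
    Ideal.map_isPrime_of_surjective Ideal.Quotient.mk_surjective (by rwa [Ideal.mk_ker])
  obtain ⟨d, hd⟩ := ENat.ne_top_iff_exists.1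
    (Ideal.height_ne_top (I := p.map (Ideal.Quotient.mk P)) (Ideal.IsPrime.ne_top inferInstance))
  obtain ⟨-, hshift⟩ := GrBass.bassNum_shift 𝒜 R 𝒜 p d hd.symm
  obtain ⟨N, hN⟩ := hGP.exists_hasInjectiveDimensionLT
  have e := Depth.localizedModuleSelfEquiv P.primeCompl
  haveI := hasInjectiveDimensionLT_of_iso (C := ModuleCat.{u} (Localization.AtPrime P))
    e.toModuleIso.symm N
  have hvanP : ∀ j, N ≤ j → _root_.GrLC.bassNum P R j = 0 := fun j hj =>
    Module.length_eq_zero_iff.2 (HasInjectiveDimensionLT.subsingleton _ N j hj _)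
  have hvan : ∀ i, N + d + 1 ≤ i → Subsingleton (Abelian.Ext
      (ModuleCat.of (Localization.AtPrime p) (ResidueField (Localization.AtPrime p)))
      (ModuleCat.of (Localization.AtPrime p) (LocalizedModule p.primeCompl R)) i) := by
    intro i hi
    obtain ⟨j, rfl⟩ : ∃ j, i = j + d := ⟨i - d, by omega⟩
    exact Module.length_eq_zero_iff.1 ((hshift j).trans (hvanP j (by omega)))
  haveI : Module.Finite (Localization.AtPrime p) (LocalizedModule p.primeCompl R) :=
    Module.Finite.equiv (Depth.localizedModuleSelfEquiv p.primeCompl).symm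
  have hid := Gor.InjDim.hasInjectiveDimensionLT_of_residue (R := Localization.AtPrime p)
    (LocalizedModule p.primeCompl R) (N + d) hvan
  haveI : HasInjectiveDimensionLT (ModuleCat.of (Localization.AtPrime p) (Localization.AtPrime p)) (N + d + 1) :=
    hasInjectiveDimensionLT_of_iso (Depth.localizedModuleSelfEquiv p.primeCompl).toModuleIso (N + d + 1)
  exact Gor.Basic.gorenstein_mk (n := N + d + 1) inferInstance

end Groth.Agent.InvGor
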