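import Groth.Agent.InvGor.Cramer
import Groth.Agent.Gor.Ring
import Groth.Agent.Gor.CechHull
import Groth.Agent.Depth.Local
import Groth.Agent.Depth.CM
import Groth.Agent.CMSeq.Basic
import Mathlib.Algebra.Algebra.Subalgebra.Operations

/-!
# Invariants of a regular local ring under a unimodular linear action are Gorenstein
-/

set_option autoImplicit false
set_option linter.unusedSectionVars false
universe u

open IsLocalRing RingTheory.Sequence Matrix
open scoped Pointwise

noncomputable section

namespace Groth.Agent.InvGor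

variable {L : Type u} [CommRing L] {G : Type*} [Group G] [MulSemiringAction G L]

local notation "B" => FixedPoints.subring L G

theorem mem_inv_iff {x : L} : x ∈ B ↔ ∀ g : G, g • x = x := Iff.rfl

instance isLocalRing_inv [IsLocalRing L] : IsLocalRing B := by
  have h : ∀ b : B, IsUnit (b : L) → IsUnit b := by
    intro b hb
    obtain ⟨v, hv⟩ := hb.exists_left_inv
    have hvB : v ∈ B := mem_inv_iff.2 fun g => by
      have h1 := congrArg (g • ·) hv
      simp only [smul_mul', smul_one, mem_inv_iff.1 b.2 g] at h1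
      calc g • v = g • v * (v * (b : L)) := by rw [hv, mul_one]
        _ = v := by rw [mul_comm v, ← mul_assoc, h1, one_mul]
    exact IsUnit.of_mul_eq_one ⟨v, hvB⟩ (Subtype.ext (by simp [mul_comm _ v, hv]))
  haveI : IsLocalHom (B).subtype := ⟨fun b hb => h b hb⟩
  exact RingHom.domain_isLocalRing (B).subtype

variable [Finite G] {u : L} (hu : u * (Nat.card G : L) = 1)

variable (G u) in
/-- averaging -/
def avg (x : L) : L :=
  letI := Fintype.ofFinite G
  u * ∑ g : G, g • x

include hu in
theorem smul_unit (g : G) : g • u = u := by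
  have h := congrArg (g • ·) hu
  have hn : g • (Nat.card G : L) = Nat.card G := map_natCast (MulSemiringAction.toRingHom G L g) _
  simp only [smul_mul', smul_one, hn] at h
  calc g • u = g • u * (u * (Nat.card G : L)) := by rw [hu, mul_one]
    _ = u := by rw [mul_comm u, ← mul_assoc, h, one_mul]

include hu in
theorem avg_mem (x : L) : avg G u x ∈ B := by
  refine mem_inv_iff.2 fun g => ?_
  letI := Fintype.ofFinite G
  rw [avg, smul_mul', smul_unit hu, Finset.smul_sum]
  congr 1
  exact Fintype.sum_equiv (Equiv.mulLeft g) _ _ fun h => by simp [mul_smul]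

theorem avg_mul {b : L} (hb : b ∈ B) (x : L) : avg G u (b * x) = b * avg G u x := by
  letI := Fintype.ofFinite G
  simp only [avg, smul_mul', mem_inv_iff.1 hb, ← Finset.mul_sum]
  ring

include hu in
theorem avg_eq_self {b : L} (hb : b ∈ B) : avg G u b = b := by
  letI := Fintype.ofFinite G
  simp only [avg, mem_inv_iff.1 hb, Finset.sum_const, Finset.card_univ, nsmul_eq_mul,
    ← Nat.card_eq_fintype_card, ← mul_assoc, hu, one_mul]

theorem avg_add (x y : L) : avg G u (x + y) = avg G u x + avg G u y := by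
  simp only [avg, smul_add, Finset.sum_add_distrib, mul_add]

variable (G u) in
/-- averaging as a linear map over the invariants -/
def avgHom : L →ₗ[B] L where
  toFun := avg G u
  map_add' := avg_add
  map_smul' b x := avg_mul b.2 x

include hu in
/-- An invariant combination of invariants can be taken with invariant coefficients. -/
theorem mem_span_of_mem_map {I : Ideal B} {b : B} (h : (b : L) ∈ I.map (B).subtype) : b ∈ I := by
  have key : ∀ z ∈ I.map (B).subtype, ∀ hz : avg G u z ∈ B, (⟨avg G u z, hz⟩ : B) ∈ I := by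
    intro z hz
    rw [Ideal.map, Ideal.span] at hz
    have : ∀ c : L, ∀ hc : avg G u (c * z) ∈ B, (⟨avg G u (c * z), hc⟩ : B) ∈ I := by
      induction hz using Submodule.span_induction with
      | mem z hz =>
        obtain ⟨i, hi, rfl⟩ := hz
        intro c hc
        have e : (⟨avg G u (c * (B).subtype i), hc⟩ : B) = ⟨avg G u c, avg_mem hu c⟩ * i :=
          Subtype.ext (show avg G u (c * (i : L)) = avg G u c * (i : L) by
            rw [mul_comm c, avg_mul i.2, mul_comm])
        rw [e]; exact I.mul_mem_left _ hi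
      | zero =>
        intro c hc
        have e : (⟨avg G u (c * 0), hc⟩ : B) = 0 := Subtype.ext (by simp [avg])
        rw [e]; exact I.zero_mem
      | add y z _ _ hy hz =>
        intro c hc
        have e : (⟨avg G u (c * (y + z)), hc⟩ : B) = ⟨avg G u (c * y), avg_mem hu _⟩ + ⟨avg G u (c * z), avg_mem hu _⟩ :=
          Subtype.ext (by simp [mul_add, avg_add])
        rw [e]; exact I.add_mem (hy c _) (hz c _)
      | smul a z _ hz =>
        intro c hc
        have e : (⟨avg G u (c * (a • z)), hc⟩ : B) = ⟨avg G u (c * a * z), avg_mem hu _⟩ :=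
          Subtype.ext (by simp [mul_assoc])
        rw [e]; exact hz _ _
    intro hz'
    simpa using this 1 (by simpa using hz')
  have := key _ h (avg_mem hu _)
  rwa [show (⟨avg G u (b : L), avg_mem hu _⟩ : B) = b from Subtype.ext (avg_eq_self hu b.2)] at this

include hu in
theorem isNoetherianRing_inv [IsNoetherianRing L] : IsNoetherianRing B := by
  rw [isNoetherianRing_iff, isNoetherian_iff']
  refine ⟨(OrderEmbedding.ofMapLEIff (fun I : Ideal B => I.map (B).subtype) fun I J => ⟨fun h b hb =>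
    mem_span_of_mem_map hu (SetLike.le_def.1 h (Ideal.mem_map_of_mem _ hb)), fun h => Ideal.map_mono h⟩).dual.wellFounded
      (wellFounded_gt (α := Ideal L))⟩

include hu in
/-- Weak regularity descends to the invariants. -/
theorem isWeaklyRegular_inv (l : List B) (h : IsWeaklyRegular L (l.map (B).subtype)) :
    IsWeaklyRegular B l := by
  refine ⟨fun i hi => ?_⟩
  have h' := h.regular_mod_prev i (by simpa using hi)
  rw [List.getElem_map, ← List.map_take] at h'
  rw [isSMulRegular_iff_right_eq_zero_of_smul]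
  intro z
  obtain ⟨z, rfl⟩ := Submodule.Quotient.mk_surjective _ z
  intro hz
  rw [← Submodule.Quotient.mk_smul, Submodule.Quotient.mk_eq_zero, Ideal.smul_top_eq_map] at hz
  rw [Submodule.Quotient.mk_eq_zero, Ideal.smul_top_eq_map]
  simp only [Algebra.algebraMap_self, Ideal.map_id, Submodule.restrictScalars_self,
    smul_eq_mul] at hz ⊢
  refine mem_span_of_mem_map hu ?_
  rw [Ideal.map_ofList]
  have h1 : (B).subtype l[i] • (Submodule.Quotient.mk (z : L) :
      L ⧸ (Ideal.ofList ((l.take i).map (B).subtype) • ⊤ : Submodule L L)) = 0 := by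
    rw [← Submodule.Quotient.mk_smul, Submodule.Quotient.mk_eq_zero, smul_eq_mul, smul_eq_mul,
      Ideal.mul_top]
    have := Ideal.mem_map_of_mem (B).subtype hz
    rwa [Ideal.map_ofList, map_mul] at this
  have h2 := isSMulRegular_iff_right_eq_zero_of_smul.mp h' _ h1
  rwa [Submodule.Quotient.mk_eq_zero, smul_eq_mul, Ideal.mul_top] at h2

/-- Gorenstein-ness ascends from the quotient by a weakly regular sequence. -/
theorem gorenstein_of_quotient_list : ∀ (n : ℕ) (R : Type u) [CommRing R] [IsLocalRing R]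
    [IsNoetherianRing R] (l : List R), l.length = n → IsWeaklyRegular R l →
    (∀ a ∈ l, a ∈ maximalIdeal R) → LocCoh.IsGorensteinLocalRing (R ⧸ Ideal.ofList l) →
    LocCoh.IsGorensteinLocalRing R
  | 0, R, _, _, _, l, hl, _, _, hG => by
    obtain rfl := List.length_eq_zero_iff.mp hl
    exact Gor.FlatLocal.gorenstein_of_ringEquiv (R := R ⧸ Ideal.ofList ([] : List R))
      ((Ideal.quotEquivOfEq Ideal.ofList_nil).trans (RingEquiv.quotientBot R))
  | n + 1, R, _, _, _, [], hl, _, _, _ => absurd hl (by simp)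
  | n + 1, R, _, _, _, f :: l, hl, hreg, hm, hG => by
    have hf : f ∈ maximalIdeal R := hm f List.mem_cons_self
    rw [isWeaklyRegular_cons_iff'] at hreg
    have := Gor.Basic.isLocalRing_quotient R hf
    let e : QuotSMulTop f R ≃ₗ[R ⧸ Ideal.span {f}] R ⧸ Ideal.span {f} :=
      let e₀ : QuotSMulTop f R ≃ₗ[R] R ⧸ Ideal.span {f} := Submodule.quotEquivOfEq _ _ (by
        rw [← Submodule.ideal_span_singleton_smul, smul_eq_mul, Ideal.mul_top])
      { e₀ with
        map_smul' := fun c y => by
          obtain ⟨c, rfl⟩ := Ideal.Quotient.mk_surjective c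
          exact e₀.map_smul c y }
    have hloc : ∀ a ∈ l.map (Ideal.Quotient.mk (Ideal.span {f})), a ∈ maximalIdeal (R ⧸ Ideal.span {f}) := by
      intro a ha
      obtain ⟨b, hb, rfl⟩ := List.mem_map.mp ha
      have : IsLocalHom (Ideal.Quotient.mk (Ideal.span {f})) :=
        IsLocalHom.of_surjective _ Ideal.Quotient.mk_surjective
      exact (map_mem_nonunits_iff (Ideal.Quotient.mk (Ideal.span {f})) b).mpr (hm b (List.mem_cons_of_mem _ hb))
    refine (Gor.Basic.gorenstein_quotient_iff hf hreg.1).mpr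
      (gorenstein_of_quotient_list n (R ⧸ Ideal.span {f}) (l.map (Ideal.Quotient.mk _))
        (by simp at hl ⊢; omega) ((e.isWeaklyRegular_congr _).mp hreg.2) hloc ?_)
    exact Gor.FlatLocal.gorenstein_of_ringEquiv (R := R ⧸ Ideal.ofList (f :: l))
      ((Ideal.quotEquivOfEq (Ideal.ofList_cons f l)).trans
        ((DoubleQuot.quotQuotEquivQuotSup _ _).symm.trans (Ideal.quotEquivOfEq (Ideal.map_ofList _ l))))

section Main

variable [IsRegularLocalRing L]

include hu in
theorem mem_maximalIdeal_inv {b : B} : b ∈ maximalIdeal B ↔ (b : L) ∈ maximalIdeal L := by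
  constructor
  · intro h hb
    refine h ?_
    obtain ⟨v, hv⟩ := hb.exists_left_inv
    have hvB : v ∈ B := mem_inv_iff.2 fun g => by
      have h1 := congrArg (g • ·) hv
      simp only [smul_mul', smul_one, mem_inv_iff.1 b.2 g] at h1
      calc g • v = g • v * (v * (b : L)) := by rw [hv, mul_one]
        _ = v := by rw [mul_comm v, ← mul_assoc, h1, one_mul]
    exact IsUnit.of_mul_eq_one ⟨v, hvB⟩ (Subtype.ext (by simp [mul_comm _ v, hv]))
  · exact fun h hb => h (hb.map (B).subtype)

include hu in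
/-- A regular sequence of length `dim L` consisting of invariants. -/
theorem exists_inv_regular {n : ℕ} (hn : ringKrullDim L = n)
    (hrad : maximalIdeal L ≤ ((maximalIdeal B).map (B).subtype).radical) :
    ∀ k ≤ n, ∃ l : List B, l.length = k ∧ (∀ b ∈ l, b ∈ maximalIdeal B) ∧
      IsWeaklyRegular L (l.map (B).subtype) := by
  intro k
  induction k with
  | zero => exact fun _ => ⟨[], rfl, by simp, IsWeaklyRegular.nil L L⟩
  | succ k ih =>
    intro hk
    obtain ⟨l, hl, hlm, hreg⟩ := ih (by omega)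
    set J := Ideal.ofList (l.map (B).subtype)
    have hmem : ∀ r ∈ l.map (B).subtype, r ∈ maximalIdeal L := by
      intro r hr
      obtain ⟨b, hb, rfl⟩ := List.mem_map.1 hr
      exact (mem_maximalIdeal_inv hu).1 (hlm b hb)
    have hdep := Depth.idealDepth_quotient_add_length (I := maximalIdeal L) _ L hreg hmem
    have hcm := (Depth.isCohenMacaulayLocalRing_of_isRegularLocalRing (R := L)).supportDim_eq_depth
    rw [Module.supportDim_self_eq_ringKrullDim, hn] at hcm
    have hdn : LocCoh.idealDepth (maximalIdeal L) L = n := by exact_mod_cast hcm.symm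
    have h1 : 1 ≤ LocCoh.idealDepth (maximalIdeal L)
        (L ⧸ (Ideal.ofList (l.map (B).subtype) • ⊤ : Submodule L L)) := by
      by_contra h
      rw [not_le, ENat.lt_one_iff_eq_zero] at h
      rw [h, hdn, zero_add, List.length_map, hl] at hdep
      have : k = n := by exact_mod_cast hdep
      omega
    have hass := Depth.one_le_idealDepth_iff.mp h1
    obtain ⟨b, hb, hb'⟩ : ∃ b ∈ maximalIdeal B, ∀ p ∈ associatedPrimes L
        (L ⧸ (Ideal.ofList (l.map (B).subtype) • ⊤ : Submodule L L)), (b : L) ∉ p := by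
      by_contra hcon
      push Not at hcon
      have hfin := associatedPrimes.finite L (L ⧸ (Ideal.ofList (l.map (B).subtype) • ⊤ : Submodule L L))
      have hsub : (maximalIdeal B : Set B) ⊆ ⋃ p ∈ associatedPrimes L
          (L ⧸ (Ideal.ofList (l.map (B).subtype) • ⊤ : Submodule L L)), (p.comap (B).subtype : Set B) := by
        intro b hb
        obtain ⟨p, hp, hbp⟩ := hcon b hb
        exact Set.mem_biUnion hp hbp
      obtain ⟨p, hp, hle⟩ := (Ideal.subset_union_prime_finite hfin (f := fun p => p.comap (B).subtype)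
        ⊤ ⊤ (fun p hp _ _ => haveI := hp.isPrime; Ideal.comap_isPrime (B).subtype p)).1 hsub
      exact hass p hp (hrad.trans (((Ideal.radical_mono (Ideal.map_le_iff_le_comap.2 hle))).trans
        hp.isPrime.radical.le))
    refine ⟨l ++ [b], by simp [hl], ?_, ?_⟩
    · intro c hc
      rcases List.mem_append.1 hc with hc | hc
      · exact hlm c hc
      · rw [List.mem_singleton.1 hc]; exact hb
    · rw [List.map_append, isWeaklyRegular_append_iff]
      refine ⟨hreg, (isWeaklyRegular_singleton_iff _ _).2 ?_⟩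
      rw [isSMulRegular_iff_right_eq_zero_of_smul]
      intro z hz
      by_contra hne
      have : (b : L) ∈ ⋃ p ∈ associatedPrimes L
          (L ⧸ (Ideal.ofList (l.map (B).subtype) • ⊤ : Submodule L L)), (p : Set L) := by
        rw [biUnion_associatedPrimes_eq_zero_divisors]
        exact ⟨z, hne, hz⟩
      obtain ⟨p, hp, hbp⟩ := Set.mem_iUnion₂.1 this
      exact hb' p hp hbp

/-- `x ^ N` and any system of parameters are regular in every order. -/
theorem nzd_others {n : ℕ} (hn : ringKrullDim L = n) (f : Fin n → L) (hf : ∀ i, f i ∈ maximalIdeal L)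
    (hrad : maximalIdeal L ≤ (Ideal.span (Set.range f)).radical) (i : Fin n) (z : L)
    (hz : f i * z ∈ Ideal.span (f '' {i}ᶜ)) : z ∈ Ideal.span (f '' {i}ᶜ) := by
  classical
  set others := (Finset.univ.erase i).toList.map f with hothers
  have hspan : Ideal.ofList others = Ideal.span (f '' {i}ᶜ) := by
    change Ideal.span {r | r ∈ others} = _
    congr 1
    ext r
    simp [hothers]
  have hlen : others.length + 1 = n := by
    simp [hothers, Nat.sub_add_cancel i.pos]
  have hall : Ideal.ofList (others ++ [f i]) = Ideal.span (Set.range f) := by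
    rw [Ideal.ofList_append, hspan, Ideal.ofList_singleton]
    refine le_antisymm (sup_le (Ideal.span_mono (Set.image_subset_range f _))
      (Ideal.span_mono (Set.singleton_subset_iff.2 ⟨i, rfl⟩))) (Ideal.span_le.2 ?_)
    rintro _ ⟨j, rfl⟩
    by_cases hj : j = i
    · subst hj; exact Submodule.mem_sup_right (Ideal.mem_span_singleton_self _)
    · exact Submodule.mem_sup_left (Ideal.subset_span ⟨j, hj, rfl⟩)
  have hreg : IsWeaklyRegular L (others ++ [f i]) := by
    refine CMSeq.isWeaklyRegular_of_radical _ L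
      (Depth.isCohenMacaulayLocalRing_of_isRegularLocalRing (R := L)).supportDim_eq_depth ?_ ?_ ?_
    · rw [hall, Ideal.span_le]; rintro _ ⟨j, rfl⟩; exact hf j
    · rw [hall]; exact hrad.trans (Ideal.radical_mono le_sup_right)
    · rw [Module.supportDim_self_eq_ringKrullDim, hn, List.length_append, List.length_singleton, hlen]
  rw [isWeaklyRegular_append_iff, isWeaklyRegular_singleton_iff] at hreg
  have := isSMulRegular_iff_right_eq_zero_of_smul.mp hreg.2 (Submodule.Quotient.mk z) (by
    rw [← Submodule.Quotient.mk_smul, Submodule.Quotient.mk_eq_zero, smul_eq_mul, smul_eq_mul,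
      Ideal.mul_top, hspan]
    exact hz)
  rwa [Submodule.Quotient.mk_eq_zero, smul_eq_mul, Ideal.mul_top, hspan] at this

include hu in
theorem gorenstein_inv {n : ℕ} (hn : ringKrullDim L = n) (x : Fin n → L)
    (hx : Ideal.span (Set.range x) = maximalIdeal L)
    (M : G → Matrix (Fin n) (Fin n) L) (hM : ∀ g, (fun i => g • x i) = M g *ᵥ x)
    (hdet : ∀ g, (M g).det = 1)
    (hrad : maximalIdeal L ≤ ((maximalIdeal B).map (B).subtype).radical)
    (hmon : ∀ N : ℕ, 1 ≤ N → ∏ i, x i ^ (N - 1) ∉ Ideal.span (Set.range fun i => x i ^ N)) :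
    LocCoh.IsGorensteinLocalRing B := by
  classical
  haveI := isNoetherianRing_inv hu
  obtain ⟨l, hl, hlm, hreg⟩ := exists_inv_regular hu hn hrad n le_rfl
  let e : Fin n ≃ Fin l.length := finCongr hl.symm
  let f : Fin n → L := fun i => (l.get (e i) : L)
  have hfB : ∀ (g : G) i, g • f i = f i := fun g i => mem_inv_iff.1 (l.get (e i)).2 g
  have hlK : Ideal.ofList (l.map (B).subtype) = Ideal.span (Set.range f) := by
    change Ideal.span {r | r ∈ l.map (B).subtype} = _
    congr 1
    ext r
    simp only [Set.mem_setOf_eq, List.mem_map, Set.mem_range, f]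
    constructor
    · rintro ⟨b, hb, rfl⟩
      obtain ⟨j, hj⟩ := List.get_of_mem hb
      exact ⟨e.symm j, by rw [Equiv.apply_symm_apply, hj]; rfl⟩
    · rintro ⟨i, rfl⟩; exact ⟨_, List.get_mem l _, rfl⟩
  set K := Ideal.span (Set.range f) with hK
  have hfm : ∀ i, f i ∈ maximalIdeal L :=
    fun i => (mem_maximalIdeal_inv hu).1 (hlm _ (List.get_mem l _))
  have hKm : K ≤ maximalIdeal L := Ideal.span_le.2 (by rintro _ ⟨i, rfl⟩; exact hfm i)
  -- the Artinian Gorenstein quotient
  have hmemL : ∀ a ∈ l.map (B).subtype, a ∈ maximalIdeal L := by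
    intro a ha
    obtain ⟨b, hb, rfl⟩ := List.mem_map.1 ha
    exact (mem_maximalIdeal_inv hu).1 (hlm b hb)
  haveI : LocCoh.IsGorensteinLocalRing L := S0342.result L
  haveI hGQ := Gor.CechHull.gorenstein_quotient_list _ L _ rfl hreg hmemL
  haveI : LocCoh.IsGorensteinLocalRing (L ⧸ K) :=
    Gor.FlatLocal.gorenstein_of_ringEquiv (R := L ⧸ Ideal.ofList (l.map (B).subtype))
      (Ideal.quotEquivOfEq hlK)
  haveI : IsLocalHom (Ideal.Quotient.mk K) := IsLocalHom.of_surjective _ Ideal.Quotient.mk_surjective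
  have hdim0 : Ring.KrullDimLE 0 (L ⧸ Ideal.ofList (l.map (B).subtype)) := by
    have h := ringKrullDim_add_length_eq_ringKrullDim_of_isRegular _
      ((IsLocalRing.isRegular_iff_isWeaklyRegular_of_subset_maximalIdeal hmemL).2 hreg)
    rw [hn, List.length_map, hl] at h
    rw [Ring.krullDimLE_iff]
    generalize ringKrullDim (L ⧸ Ideal.ofList (l.map (B).subtype)) = d at h ⊢
    induction d with
    | bot => exact bot_le
    | coe a =>
      have h' : a + (n : ℕ∞) = n := by exact_mod_cast h
      have : a = 0 := (ENat.add_left_injective_of_ne_top (ENat.coe_ne_top n)) (by simpa using h')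
      simp [this]
  haveI : Ring.KrullDimLE 0 (L ⧸ K) := by rw [hlK] at hdim0; exact hdim0
  haveI : IsArtinianRing (L ⧸ K) := isArtinianRing_iff_isNoetherianRing_krullDimLE_zero.2 ⟨inferInstance, inferInstance⟩
  obtain ⟨N₀, hN₀⟩ : ∃ N, maximalIdeal L ^ N ≤ K := by
    obtain ⟨N, hN⟩ := (isArtinianRing_iff_isNilpotent_maximalIdeal (L ⧸ K)).1 inferInstance
    refine ⟨N, fun r hr => Ideal.Quotient.eq_zero_iff_mem.1 ?_⟩
    have hmax : (maximalIdeal L).map (Ideal.Quotient.mk K) ≤ maximalIdeal (L ⧸ K) :=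
      Ideal.map_le_iff_le_comap.2 fun y hy => (map_mem_nonunits_iff (Ideal.Quotient.mk K) y).mpr hy
    have h' : Ideal.Quotient.mk K r ∈ maximalIdeal (L ⧸ K) ^ N :=
      Ideal.pow_right_mono hmax N
        (Ideal.map_pow (Ideal.Quotient.mk K) _ N ▸ Ideal.mem_map_of_mem _ hr)
    rw [hN] at h'
    exact h'
  have hradK : maximalIdeal L ≤ K.radical := fun r hr => ⟨N₀, hN₀ (Ideal.pow_mem_pow hr N₀)⟩
  have hfperm := nzd_others hn f hfm hradK
  -- the coefficient matrix and its determinant
  have hfx : ∀ i, ∃ c : Fin n → L, ∑ j, c j • x j = f i := fun i =>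
    (Submodule.mem_span_range_iff_exists_fun L).1 (hx.symm.le (hfm i))
  choose a ha using hfx
  have ha' : Matrix.of a *ᵥ x = f := by funext i; simpa [mulVec, dotProduct, smul_eq_mul] using ha i
  set Δ := (Matrix.of a).det with hΔ
  have hΔm : ∀ c ∈ maximalIdeal L, Δ * c ∈ K := by
    intro c hc
    rw [← hx] at hc
    obtain ⟨d, rfl⟩ := (Submodule.mem_span_range_iff_exists_fun L).1 hc
    rw [Finset.mul_sum]
    refine Submodule.sum_mem _ fun j _ => ?_
    rw [smul_eq_mul, mul_left_comm]
    exact Ideal.mul_mem_left _ _ (det_mul_mem _ x (fun i => by rw [ha']; exact Ideal.subset_span ⟨i, rfl⟩) j)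
  have hΔK : Δ ∉ K := by
    intro hmem
    set N := N₀ + 1
    have hxN : ∀ i, x i ^ N ∈ K := fun i =>
      hN₀ (Ideal.pow_le_pow_right (Nat.le_succ N₀) (Ideal.pow_mem_pow (hx ▸ Ideal.subset_span ⟨i, rfl⟩) N))
    choose b hb using fun i => (Submodule.mem_span_range_iff_exists_fun L).1 (hxN i)
    have hb' : Matrix.of b *ᵥ f = fun i => x i ^ N := by
      funext i; simpa [mulVec, dotProduct, smul_eq_mul] using hb i
    have hperm := nzd_others hn (fun i => x i ^ N)
      (fun i => Ideal.pow_mem_of_mem _ (hx ▸ Ideal.subset_span ⟨i, rfl⟩) N (Nat.succ_pos N₀))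
      (by
        rw [← hx, Ideal.span_le]
        rintro _ ⟨i, rfl⟩
        exact ⟨N, Ideal.subset_span ⟨i, rfl⟩⟩)
    have key := det_sub_det_mem (fun i => x i ^ N) x hperm (Matrix.of b * Matrix.of a)
      (Matrix.diagonal fun i => x i ^ (N - 1)) (by rw [← mulVec_mulVec, ha', hb'])
      (by funext i; rw [mulVec_diagonal, ← pow_succ]; rfl)
    rw [det_mul, det_diagonal] at key
    refine hmon N (Nat.succ_pos N₀) ?_
    have h2 : (Matrix.of b).det * Δ ∈ Ideal.span (Set.range fun i => x i ^ N) := by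
      obtain ⟨c, hc⟩ := (Submodule.mem_span_range_iff_exists_fun L).1 hmem
      rw [← hc, Finset.mul_sum]
      refine Submodule.sum_mem _ fun j _ => ?_
      rw [smul_eq_mul, mul_left_comm]
      exact Ideal.mul_mem_left _ _ (det_mul_mem _ f (fun i => by rw [hb']; exact Ideal.subset_span ⟨i, rfl⟩) j)
    have := sub_mem h2 key
    rwa [sub_sub_cancel] at this
  have hΔg : ∀ g : G, g • Δ - Δ ∈ K := by
    intro g
    let φ := MulSemiringAction.toRingHom G L g
    have h1 : ((Matrix.of a).map φ * M g) *ᵥ x = f := by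
      rw [← mulVec_mulVec, ← hM g]
      funext i
      have := congrArg φ (congr_fun ha' i)
      rw [RingHom.map_mulVec] at this
      exact this.trans (hfB g i)
    have key := det_sub_det_mem f x hfperm _ _ h1 ha'
    rw [det_mul, hdet g, mul_one, ← RingHom.mapMatrix_apply, ← RingHom.map_det] at key
    exact key
  -- socle of `L ⧸ K`
  have hsocle : ∀ z, z ∉ K → (∀ c ∈ maximalIdeal L, z * c ∈ K) → ∃ c, z * c - Δ ∈ K := by
    intro z hz hzm
    obtain ⟨m, hm⟩ := Gor.Basic.exists_hasInjectiveDimensionLT (A := L ⧸ K)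
    obtain ⟨φ, hφ⟩ := Gor.Basic.exists_socle_of_artinian (A := L ⧸ K)
    have hinj := Gor.Basic.injective_of_socle_of_finite_id hφ m hm
    haveI : IsSimpleModule (L ⧸ K) (LocCoh.torsionBy (maximalIdeal (L ⧸ K)) (L ⧸ K)) :=
      Module.length_eq_one_iff.1 (Gor.Basic.length_socle_of_injective hφ hinj)
    have hin : ∀ w : L, (∀ c ∈ maximalIdeal L, w * c ∈ K) →
        Ideal.Quotient.mk K w ∈ LocCoh.torsionBy (maximalIdeal (L ⧸ K)) (L ⧸ K) := by
      intro w hw
      refine (Submodule.mem_torsionBySet_iff _ _).2 fun ⟨c, hc⟩ => ?_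
      obtain ⟨c, rfl⟩ := Ideal.Quotient.mk_surjective c
      rw [smul_eq_mul, ← map_mul, Ideal.Quotient.eq_zero_iff_mem, mul_comm]
      exact hw c ((map_mem_nonunits_iff (Ideal.Quotient.mk K) c).1 hc)
    obtain ⟨c, hc⟩ := IsSimpleModule.toSpanSingleton_surjective (L ⧸ K) (m := ⟨_, hin z hzm⟩)
      (fun h => hz (Ideal.Quotient.eq_zero_iff_mem.1 (congrArg Subtype.val h))) ⟨_, hin Δ hΔm⟩
    obtain ⟨c, rfl⟩ := Ideal.Quotient.mk_surjective c
    refine ⟨c, Ideal.Quotient.eq.1 ?_⟩
    rw [map_mul, mul_comm]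
    exact congrArg Subtype.val hc
  have hreach : ∀ z, z ∉ K → ∃ c, z * c - Δ ∈ K := by
    suffices h : ∀ N z, z ∉ K → (∀ c ∈ maximalIdeal L ^ N, z * c ∈ K) → ∃ c, z * c - Δ ∈ K from
      fun z hz => h N₀ z hz fun c hc => Ideal.mul_mem_left _ _ (hN₀ hc)
    intro N
    induction N with
    | zero => exact fun z hz h => absurd (by simpa using h 1 (by simp)) hz
    | succ N ih =>
      intro z hz h
      by_cases h' : ∀ c ∈ maximalIdeal L, z * c ∈ K
      · exact hsocle z hz h'
      push Not at h'
      obtain ⟨c, hc, hzc⟩ := h'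
      obtain ⟨d, hd⟩ := ih (z * c) hzc fun e he => by
        rw [mul_assoc]
        exact h _ (pow_succ' (maximalIdeal L) N ▸ Ideal.mul_mem_mul hc he)
      exact ⟨c * d, by rwa [← mul_assoc]⟩
  -- descend to the invariants
  set KB := Ideal.ofList l with hKB
  have hKBmap : KB.map (B).subtype = K := by rw [hKB, Ideal.map_ofList, hlK]
  have hKBmem : ∀ b : B, b ∈ KB ↔ (b : L) ∈ K := fun b =>
    ⟨fun h => hKBmap ▸ Ideal.mem_map_of_mem (B).subtype h,
      fun h => mem_span_of_mem_map hu (hKBmap.symm ▸ h)⟩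
  have havgK : ∀ z ∈ K, avg G u z ∈ K := by
    intro z hz
    rw [hK] at hz ⊢
    obtain ⟨c, rfl⟩ := (Submodule.mem_span_range_iff_exists_fun L).1 hz
    have : avg G u (∑ i, c i • f i) = ∑ i, avg G u (c i) * f i := by
      change avgHom G u _ = _
      rw [map_sum]
      refine Finset.sum_congr rfl fun i _ => ?_
      change avg G u (c i * f i) = _
      rw [mul_comm (c i), avg_mul (mem_inv_iff.2 fun g => hfB g i), mul_comm]
    rw [this]
    exact Submodule.sum_mem _ fun i _ => Ideal.mul_mem_left _ _ (Ideal.subset_span ⟨i, rfl⟩)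
  have hRΔ : avg G u Δ - Δ ∈ K := by
    letI := Fintype.ofFinite G
    have : avg G u Δ - Δ = u * ∑ g : G, (g • Δ - Δ) := by
      rw [Finset.sum_sub_distrib, mul_sub, Finset.sum_const, Finset.card_univ, nsmul_eq_mul,
        ← Nat.card_eq_fintype_card, ← mul_assoc, hu, one_mul, avg]
    rw [this]
    exact Ideal.mul_mem_left _ _ (Submodule.sum_mem _ fun g _ => hΔg g)
  let δ : B := ⟨avg G u Δ, avg_mem hu Δ⟩
  have hδK : δ ∉ KB := fun h => hΔK (by
    have := sub_mem ((hKBmem δ).1 h) hRΔ
    rwa [sub_sub_cancel] at this)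
  have hsocB : ∀ b : B, (∀ c ∈ maximalIdeal B, b * c ∈ KB) → ∃ c : B, b - c * δ ∈ KB := by
    intro b hbm
    by_cases hb : b ∈ KB
    · exact ⟨0, by simpa using hb⟩
    obtain ⟨y, hy⟩ := hreach (b : L) fun h => hb ((hKBmem b).2 h)
    let y' : B := ⟨avg G u y, avg_mem hu y⟩
    have hy' : b * y' - δ ∈ KB := (hKBmem _).2 (by
      have := havgK _ hy
      change avgHom G u _ ∈ K at this
      rw [map_sub] at this
      change (b : L) * avg G u y - avg G u Δ ∈ K
      change avg G u ((b : L) * y) - avg G u Δ ∈ K at this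
      rwa [avg_mul b.2] at this)
    have hunit : IsUnit y' := by
      by_contra h
      have := sub_mem (hbm y' h) hy'
      rw [sub_sub_cancel] at this
      exact hδK this
    refine ⟨↑hunit.unit⁻¹, ?_⟩
    have : b - (↑hunit.unit⁻¹ : B) * δ = ↑hunit.unit⁻¹ * (b * y' - δ) := by
      rw [mul_sub, mul_left_comm, hunit.val_inv_mul, mul_one]
    rw [this]
    exact Ideal.mul_mem_left _ _ hy'
  have hKBm : KB ≤ maximalIdeal B := Ideal.span_le.2 fun b hb => hlm b hb
  haveI : Nontrivial (B ⧸ KB) :=
    Ideal.Quotient.nontrivial_iff.2 fun h => (maximalIdeal.isMaximal B).ne_top (eq_top_iff.2 (h ▸ hKBm))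
  haveI : IsLocalRing (B ⧸ KB) := IsLocalRing.of_surjective' _ Ideal.Quotient.mk_surjective
  haveI : IsLocalHom (Ideal.Quotient.mk KB) := IsLocalHom.of_surjective _ Ideal.Quotient.mk_surjective
  haveI : IsArtinianRing (B ⧸ KB) := by
    rw [isArtinianRing_iff_isNilpotent_maximalIdeal]
    refine ⟨N₀, eq_bot_iff.2 ?_⟩
    rw [← Ideal.map_comap_of_surjective _ Ideal.Quotient.mk_surjective (maximalIdeal (B ⧸ KB)),
      ← Ideal.map_pow, Ideal.map_le_iff_le_comap]
    intro b hb
    rw [Ideal.mem_comap, Ideal.mem_bot, Ideal.Quotient.eq_zero_iff_mem, hKBmem]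
    refine hN₀ (Ideal.pow_right_mono (Ideal.map_le_iff_le_comap.2 (fun c hc => ?_)) N₀
      (Ideal.map_pow (B).subtype _ N₀ ▸ Ideal.mem_map_of_mem (B).subtype hb))
    exact (mem_maximalIdeal_inv hu).1 ((map_mem_nonunits_iff (Ideal.Quotient.mk KB) c).1 hc)
  refine gorenstein_of_quotient_list l.length B l rfl (isWeaklyRegular_inv hu l hreg) hlm
    (Gor.Basic.gorenstein_of_injective (Gor.Basic.injective_of_simple_socle ?_))
  let V := LocCoh.torsionBy (maximalIdeal (B ⧸ KB)) (B ⧸ KB)
  have hδV : Ideal.Quotient.mk KB δ ∈ V := by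
    refine (Submodule.mem_torsionBySet_iff _ _).2 fun ⟨c, hc⟩ => ?_
    obtain ⟨c, rfl⟩ := Ideal.Quotient.mk_surjective c
    rw [smul_eq_mul, ← map_mul, Ideal.Quotient.eq_zero_iff_mem, hKBmem]
    have h1 := hΔm _ ((mem_maximalIdeal_inv hu).1 ((map_mem_nonunits_iff (Ideal.Quotient.mk KB) c).1 hc))
    have h2 := add_mem (K.mul_mem_right (c : L) hRΔ) h1
    rw [sub_mul, sub_add_cancel] at h2
    change (c : L) * avg G u Δ ∈ K
    rwa [mul_comm]
  have hspan : V = Submodule.span (B ⧸ KB) {Ideal.Quotient.mk KB δ} := by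
    refine le_antisymm (fun w hw => ?_) (Submodule.span_le.2 (Set.singleton_subset_iff.2 hδV))
    obtain ⟨w, rfl⟩ := Ideal.Quotient.mk_surjective w
    obtain ⟨c, hc⟩ := hsocB w fun c hc => by
      have := (Submodule.mem_torsionBySet_iff _ _).1 hw
        ⟨Ideal.Quotient.mk KB c, (map_mem_nonunits_iff (Ideal.Quotient.mk KB) c).2 hc⟩
      rw [smul_eq_mul, ← map_mul, Ideal.Quotient.eq_zero_iff_mem, mul_comm] at this
      exact this
    refine Submodule.mem_span_singleton.2 ⟨Ideal.Quotient.mk KB c, ?_⟩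
    rw [smul_eq_mul, ← map_mul]
    exact (Ideal.Quotient.eq.2 hc).symm
  change Module.length _ V = 1
  rw [(LinearEquiv.ofEq _ _ hspan).length_eq, Module.length_eq_one_iff, isSimpleModule_iff_quot_maximal]
  refine ⟨maximalIdeal _, inferInstance, ?_⟩
  have hann : maximalIdeal (B ⧸ KB) = LinearMap.ker (LinearMap.toSpanSingleton (B ⧸ KB) _ (Ideal.Quotient.mk KB δ)) := by
    refine le_antisymm (fun c hc => ?_) (IsLocalRing.le_maximalIdeal fun h => hδK ?_)
    · exact (Submodule.mem_torsionBySet_iff _ _).1 hδV ⟨c, hc⟩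
    · have h1 : (1 : B ⧸ KB) • Ideal.Quotient.mk KB δ = 0 :=
        LinearMap.mem_ker.1 (h.symm ▸ (Submodule.mem_top : (1 : B ⧸ KB) ∈ ⊤))
      rw [one_smul, Ideal.Quotient.eq_zero_iff_mem] at h1
      exact h1
  refine ⟨?_⟩
  refine ((Submodule.quotEquivOfEq _ _ hann).trans ((LinearMap.quotKerEquivRange _).trans
    (LinearEquiv.ofEq _ _ ?_))).symm
  exact (LinearMap.range_toSpanSingleton _)

end Main

end Groth.Agent.InvGor
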