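import Groth.Agent.InvGor.Local
import Groth.Agent.InvGor.Global
import Groth.Agent.S11474
import Mathlib.Algebra.Polynomial.GroupRingAction
import Mathlib.RingTheory.RegularLocalRing.Polynomial
import Mathlib.RingTheory.MvPolynomial.WeightedHomogeneous

/-!
# Invariant rings of unimodular linear actions on polynomial rings
-/

set_option autoImplicit false
set_option linter.unusedSectionVars false
universe u

open MvPolynomial IsLocalRing Matrix

noncomputable section

namespace Groth.Agent.InvGor

section Localized

variable {S : Type u} [CommRing S] {G : Type u} [Group G] [MulSemiringAction G S]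
variable (p : Ideal S) [p.IsPrime] (hp : ∀ (g : G) (s : S), g • s ∈ p ↔ s ∈ p)

/-- the action on the localisation at a stable prime -/
@[instance_reducible]
def locAction : MulSemiringAction G (Localization.AtPrime p) where
  smul g := IsLocalization.map (Localization.AtPrime p) (MulSemiringAction.toRingHom G S g)
    (show p.primeCompl ≤ p.primeCompl.comap (MulSemiringAction.toRingHom G S g) from
      fun s hs h => hs ((hp g s).1 h))
  one_smul x := by
    change IsLocalization.map (Localization.AtPrime p) (MulSemiringAction.toRingHom G S 1) _ x = x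
    obtain ⟨a, s, rfl⟩ := IsLocalization.exists_mk'_eq p.primeCompl x
    rw [IsLocalization.map_mk']
    simp
  mul_smul g h x := by
    obtain ⟨a, s, rfl⟩ := IsLocalization.exists_mk'_eq p.primeCompl x
    change IsLocalization.map _ _ _ _ = IsLocalization.map _ _ _ (IsLocalization.map _ _ _ _)
    rw [IsLocalization.map_mk', IsLocalization.map_mk', IsLocalization.map_mk']
    simp [mul_smul]
  smul_zero g := map_zero _
  smul_add g := map_add _
  smul_one g := map_one _
  smul_mul g := map_mul _

theorem locAction_algebraMap (g : G) (s : S) :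
    letI := locAction p hp
    g • algebraMap S (Localization.AtPrime p) s = algebraMap S (Localization.AtPrime p) (g • s) :=
  IsLocalization.map_eq _ _

variable [Finite G]

/-- invariants commute with localisation at a stable prime -/
theorem nonempty_equiv_loc_inv [IsDomain S] :
    letI := locAction p hp
    Nonempty (Localization.AtPrime (p.comap (FixedPoints.subring S G).subtype) ≃+*
      FixedPoints.subring (Localization.AtPrime p) G) := by
  classical
  letI := locAction p hp
  let L := Localization.AtPrime p
  have hinj : Function.Injective (algebraMap S L) :=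
    IsLocalization.injective L p.primeCompl_le_nonZeroDivisors
  let φ : FixedPoints.subring S G →+* FixedPoints.subring L G :=
    ((algebraMap S L).comp (FixedPoints.subring S G).subtype).codRestrict _ fun b => mem_inv_iff.2
      fun g => (locAction_algebraMap p hp g _).trans (congrArg _ (mem_inv_iff.1 b.2 g))
  letI := φ.toAlgebra
  haveI : IsLocalization.AtPrime (FixedPoints.subring L G) (p.comap (FixedPoints.subring S G).subtype) := by
    refine (isLocalization_iff _ _).2 ⟨fun s => ?_, fun z => ?_, fun {a b} h => ⟨1, ?_⟩⟩
    · obtain ⟨v, hv⟩ := (IsLocalization.map_units L (⟨(s : FixedPoints.subring S G), s.2⟩ : p.primeCompl)).exists_left_inv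
      have hvB : v ∈ FixedPoints.subring L G := mem_inv_iff.2 fun g => by
        have h1 := congrArg (g • ·) hv
        simp only [smul_mul', smul_one] at h1
        rw [locAction_algebraMap p hp, mem_inv_iff.1 s.1.2 g] at h1
        calc g • v = g • v * (v * algebraMap S L (s : FixedPoints.subring S G)) := by rw [hv, mul_one]
          _ = v := by rw [mul_comm v, ← mul_assoc, h1, one_mul]
      exact IsUnit.of_mul_eq_one ⟨v, hvB⟩ (Subtype.ext (by
        change algebraMap S L _ * v = 1
        rw [mul_comm]; exact hv))
    · obtain ⟨a, s, has⟩ := IsLocalization.exists_mk'_eq p.primeCompl (z : L)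
      letI := Fintype.ofFinite G
      let t : S := ∏ g : G, g • (s : S)
      have ht : t ∈ FixedPoints.subring S G := mem_inv_iff.2 fun g => by
        change g • ∏ h : G, h • (s : S) = _
        rw [Finset.smul_prod']
        exact Fintype.prod_equiv (Equiv.mulLeft g) _ _ fun h => by simp [mul_smul]
      have htp : t ∉ p := fun h => by
        obtain ⟨g, -, hg⟩ := (Ideal.IsPrime.prod_mem_iff).1 h
        exact s.2 ((hp g s).1 hg)
      let c : S := ∏ g ∈ Finset.univ.erase (1 : G), g • (s : S)
      have htc : (s : S) * c = t := by
        have := Finset.mul_prod_erase Finset.univ (fun g : G => g • (s : S)) (Finset.mem_univ 1)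
        rwa [one_smul] at this
      have key : algebraMap S L (a * c) = (z : L) * algebraMap S L t := by
        rw [← htc, ← has, map_mul, map_mul, ← mul_assoc, IsLocalization.mk'_spec]
      have hac : a * c ∈ FixedPoints.subring S G := mem_inv_iff.2 fun g => hinj (by
        rw [← locAction_algebraMap p hp, key, smul_mul', mem_inv_iff.1 z.2 g, locAction_algebraMap p hp,
          mem_inv_iff.1 ht g])
      exact ⟨(⟨a * c, hac⟩, ⟨⟨t, ht⟩, htp⟩), Subtype.ext key.symm⟩
    · simp only [OneMemClass.coe_one, one_mul]
      exact Subtype.ext (hinj (congrArg Subtype.val h))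
  exact ⟨(IsLocalization.algEquiv (p.comap (FixedPoints.subring S G).subtype).primeCompl _ _).toRingEquiv⟩

end Localized

variable {k : Type u} [Field k] {n : ℕ} {G : Type u} [Group G] [Finite G]
  [MulSemiringAction G (MvPolynomial (Fin n) k)]
  (hC : ∀ (g : G) (c : k), g • (C c : MvPolynomial (Fin n) k) = C c)
  (M : G → Matrix (Fin n) (Fin n) k)
  (hX : ∀ (g : G) i, g • (X i : MvPolynomial (Fin n) k) = ∑ j, M g i j • X j)

local notation "S" => MvPolynomial (Fin n) k
local notation "B₀" => FixedPoints.subring (MvPolynomial (Fin n) k) G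

include hC in
theorem smul_eq_aeval (g : G) (φ : S) : g • φ = aeval (fun i => g • (X i : S)) φ := by
  have h : MulSemiringAction.toRingHom G S g = (aeval (fun i => g • (X i : S)) : S →ₐ[k] S).toRingHom :=
    MvPolynomial.ringHom_ext (fun c => by simp [hC]) (fun i => by simp)
  exact RingHom.congr_fun h φ

include hC hX in
theorem smul_isWeightedHomogeneous (g : G) {φ : S} {d : ℤ}
    (h : φ.IsWeightedHomogeneous (fun _ => (1 : ℤ)) d) :
    (g • φ).IsWeightedHomogeneous (fun _ => (1 : ℤ)) d := by
  have hl : ∀ i, (g • (X i : S)).IsWeightedHomogeneous (fun _ => (1 : ℤ)) 1 := fun i => by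
    rw [hX]
    exact IsWeightedHomogeneous.sum Finset.univ _ _ fun j _ =>
      (weightedHomogeneousSubmodule k (fun _ => (1 : ℤ)) 1).smul_mem _ (isWeightedHomogeneous_X k _ j)
  rw [smul_eq_aeval hC, φ.as_sum, map_sum]
  refine IsWeightedHomogeneous.sum _ _ _ fun e he => ?_
  have hd := h (mem_support_iff.1 he)
  rw [aeval_monomial, algebraMap_eq, ← zero_add d]
  refine (isWeightedHomogeneous_C _ _).mul ?_
  have h2 : (e.prod fun i m => (g • (X i : S)) ^ m).IsWeightedHomogeneous (fun _ => (1 : ℤ))
      (∑ i ∈ e.support, (e i : ℤ)) :=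
    IsWeightedHomogeneous.prod _ _ _ fun i _ => by simpa using (hl i).pow (e i)
  convert h2 using 1
  rw [← hd, Finsupp.weight_apply, Finsupp.sum]
  simp

variable (k n) in
/-- degree as an integer -/
abbrev zgr : ℤ → Submodule k S := weightedHomogeneousSubmodule k (fun _ => (1 : ℤ))

include hC hX in
theorem component_smul (g : G) (φ : S) (d : ℤ) :
    weightedHomogeneousComponent (fun _ => (1 : ℤ)) d (g • φ) =
      g • weightedHomogeneousComponent (fun _ => (1 : ℤ)) d φ := by
  classical
  conv_lhs => rw [φ.as_sum, Finset.smul_sum, map_sum]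
  conv_rhs => rw [φ.as_sum, map_sum, Finset.smul_sum]
  refine Finset.sum_congr rfl fun e _ => ?_
  have he : (monomial e (coeff e φ)).IsWeightedHomogeneous (fun _ => (1 : ℤ))
      (Finsupp.weight (fun _ => (1 : ℤ)) e) := isWeightedHomogeneous_monomial _ _ _ rfl
  rw [weightedHomogeneousComponent_of_mem (m := d) he,
    weightedHomogeneousComponent_of_mem (m := d) (smul_isWeightedHomogeneous hC M hX g he)]
  split_ifs <;> simp

variable (k n G) in
/-- degree pieces of the invariants -/
def igr (d : ℤ) : AddSubgroup B₀ :=
  (zgr k n d).toAddSubgroup.comap (B₀).subtype.toAddMonoidHom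

instance : SetLike.GradedMonoid (igr k n G) where
  one_mem := show (1 : S) ∈ zgr k n 0 from isWeightedHomogeneous_one _ _
  mul_mem _ _ _ _ ha hb := IsWeightedHomogeneous.mul ha hb

include hC hX in
theorem isInternal_igr : DirectSum.IsInternal (igr k n G) := by
  classical
  letI := weightedGradedAlgebra k (fun _ : Fin n => (1 : ℤ))
  constructor
  · let ψ : (DirectSum ℤ fun d => igr k n G d) →+ DirectSum ℤ fun d => zgr k n d :=
      DirectSum.toAddMonoid fun d => (DirectSum.of (fun d => zgr k n d) d).comp
        { toFun := fun b => ⟨((b : B₀) : S), b.2⟩, map_zero' := rfl, map_add' := fun _ _ => rfl }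
    have hψ : Function.Injective ψ := fun a b hab => DFinsupp.ext fun d => by
      have key : ∀ a, ((ψ a d : zgr k n d) : S) = (((a d : igr k n G d) : B₀) : S) := by
        intro a
        induction a using DirectSum.induction_on with
        | zero => simp
        | of e x =>
          rw [DirectSum.toAddMonoid_of]
          by_cases h : e = d
          · subst h; simp
          · simp [DirectSum.of_eq_of_ne _ _ _ (Ne.symm h)]
        | add a b ha hb => simp [map_add, ha, hb]
      exact Subtype.ext (Subtype.ext ((key a).symm.trans (by rw [hab]; exact key b)))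
    have hcomm : ∀ a, DirectSum.coeAddMonoidHom (zgr k n) (ψ a) =
        (B₀).subtype (DirectSum.coeAddMonoidHom (igr k n G) a) := by
      intro a
      induction a using DirectSum.induction_on with
      | zero => simp
      | of e x => simp [ψ]
      | add a b ha hb => simp [map_add, ha, hb]
    intro a b hab
    exact hψ ((DirectSum.Decomposition.isInternal (zgr k n)).injective (by
      rw [hcomm, hcomm, hab]))
  · intro b
    let s := (b : S).support.image (Finsupp.weight (fun _ => (1 : ℤ)))
    have hmem : ∀ d, weightedHomogeneousComponent (fun _ => (1 : ℤ)) d (b : S) ∈ B₀ := fun d =>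
      mem_inv_iff.2 fun g => by rw [← component_smul hC M hX, mem_inv_iff.1 b.2 g]
    refine ⟨∑ d ∈ s, DirectSum.of (fun d => igr k n G d) d
      ⟨⟨_, hmem d⟩, weightedHomogeneousComponent_mem _ _ _⟩, Subtype.ext ?_⟩
    simp only [map_sum, DirectSum.coeAddMonoidHom_of, AddSubmonoidClass.coe_finsetSum]
    refine (Finset.sum_subset_zero_on_sdiff (s₂ := s) (s₁ := s) subset_rfl (by simp) fun _ _ => rfl).trans ?_
    conv_rhs => rw [← sum_weightedHomogeneousComponent (fun _ => (1 : ℤ)) (b : S)]
    rw [finsum_eq_sum_of_support_subset]
    intro d hd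
    simp only [Function.mem_support] at hd
    by_contra h
    exact hd (weightedHomogeneousComponent_eq_zero_of_notMem _ _ _ h)

include hC hX in
theorem isGorensteinRing_inv (hG : IsUnit ((Nat.card G : ℕ) : k))
    (hdet : ∀ g, (M g).det = 1) : LocCoh.IsGorensteinRing B₀ := by
  classical
  obtain ⟨v, hv⟩ := hG.exists_left_inv
  have hu : (C v : S) * (Nat.card G : S) = 1 := by
    rw [← map_natCast (C : k →+* S), ← map_mul, hv, map_one]
  haveI : IsNoetherianRing B₀ := isNoetherianRing_inv hu
  letI : GradedRing (igr k n G) :=
    { (isInternal_igr hC M hX).chooseDecomposition,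
      (inferInstance : SetLike.GradedMonoid (igr k n G)) with }
  set p : Ideal S := RingHom.ker (constantCoeff : S →+* k) with hpdef
  haveI : p.IsMaximal := RingHom.ker_isMaximal_of_surjective _ fun c => ⟨C c, constantCoeff_C _ c⟩
  have hcc : ∀ (g : G) (φ : S), constantCoeff (g • φ) = constantCoeff φ := by
    intro g φ
    have h : (constantCoeff : S →+* k).comp (MulSemiringAction.toRingHom G S g) = constantCoeff :=
      MvPolynomial.ringHom_ext (fun c => by simp [hC]) (fun i => by simp [hX])
    exact RingHom.congr_fun h φ
  have hp : ∀ (g : G) (s : S), g • s ∈ p ↔ s ∈ p := fun g s => by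
    rw [hpdef, RingHom.mem_ker, RingHom.mem_ker, hcc]
  refine isGorensteinRing_of_graded (igr k n G) (p.comap (B₀).subtype) ?_ ?_
  · intro P hP hhom b hb
    obtain ⟨d, hd⟩ : ∃ d : ℤ, d = 0 := ⟨0, rfl⟩
    have h0 := hhom 0 hb
    rw [Ideal.mem_comap, hpdef, RingHom.mem_ker]
    by_contra hne
    -- the degree-zero component is the nonzero constant
    have hdec : ∀ b : B₀, ∀ d : ℤ, (((DirectSum.decompose (igr k n G) b d : igr k n G d) : B₀) : S) =
        weightedHomogeneousComponent (fun _ => (1 : ℤ)) d (b : S) := by
      intro b d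
      induction b using DirectSum.Decomposition.inductionOn (igr k n G) with
      | zero => simp
      | @homogeneous e x =>
        have hx' : ((x : B₀) : S) ∈ weightedHomogeneousSubmodule k (fun _ : Fin n => (1 : ℤ)) e := x.2
        rw [weightedHomogeneousComponent_of_mem (m := d) hx']
        by_cases h : d = e
        · subst h; simp
        · rw [DirectSum.decompose_of_mem_ne _ x.2 (Ne.symm h)]; simp [h]
      | add a b ha hb => simp [ha, hb]
    have hc : (((DirectSum.decompose (igr k n G) b 0 : igr k n G 0) : B₀) : S) =
        C (constantCoeff (b : S)) := by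
      rw [hdec]
      ext e
      rw [coeff_weightedHomogeneousComponent, coeff_C]
      by_cases he : (0 : Fin n →₀ ℕ) = e
      · subst he; simp [constantCoeff_eq]
      · rw [if_neg he, if_neg]
        intro hw
        refine he (Finsupp.ext fun i => ?_).symm
        have h1 : ∑ j ∈ e.support, (e j : ℤ) = 0 := by
          simpa [Finsupp.weight_apply, Finsupp.sum] using hw
        by_contra hi
        have h2 := (Finset.sum_eq_zero_iff_of_nonneg (fun (j : Fin n) _ => Int.natCast_nonneg (e j))).1 h1 i
          (Finsupp.mem_support_iff.2 hi)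
        exact hi (by exact_mod_cast h2)
    refine hP.ne_top ((Ideal.eq_top_iff_one _).2 ?_)
    have hinv : (C (constantCoeff (b : S))⁻¹ : S) ∈ B₀ := mem_inv_iff.2 fun g => hC g _
    have h1 : (⟨_, hinv⟩ : B₀) * ((DirectSum.decompose (igr k n G) b 0 : igr k n G 0) : B₀) = 1 :=
      Subtype.ext (by
        change C _ * (((DirectSum.decompose (igr k n G) b 0 : igr k n G 0) : B₀) : S) = 1
        rw [hc, ← map_mul, inv_mul_cancel₀ (show constantCoeff (b : S) ≠ 0 from hne), map_one])
    rw [← h1]
    exact P.mul_mem_left _ h0
  letI := locAction p hp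
  let L := Localization.AtPrime p
  obtain ⟨e⟩ := nonempty_equiv_loc_inv (G := G) p hp
  suffices LocCoh.IsGorensteinLocalRing (FixedPoints.subring L G) from
    Gor.FlatLocal.gorenstein_of_ringEquiv e.symm
  have hu' : algebraMap S L (C v) * (Nat.card G : L) = 1 := by
    rw [← map_natCast (algebraMap S L), ← map_mul, hu, map_one]
  haveI : IsRegularLocalRing L := isRegularRing_iff.mp inferInstance p
  have hspan : p = Ideal.span (Set.range (X : Fin n → S)) := S11474.ker_constantCoeff_eq k n
  let x : Fin n → L := fun i => algebraMap S L (X i)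
  have hx : Ideal.span (Set.range x) = maximalIdeal L := by
    rw [← Localization.AtPrime.map_eq_maximalIdeal]
    conv_rhs => arg 2; rw [hspan]
    rw [Ideal.map_span, ← Set.range_comp]
    rfl
  have hdim : ringKrullDim L = n := by
    rw [IsLocalization.AtPrime.ringKrullDim_eq_height p L]
    refine congrArg _ (le_antisymm ?_ (S11474.le_height_ker_constantCoeff k n))
    calc p.height ≤ (p.spanFinrank : ℕ∞) := Ideal.height_le_spanFinrank p (Ideal.IsMaximal.ne_top inferInstance)
      _ ≤ (n : ℕ∞) := by
        have h := Submodule.spanFinrank_span_le_ncard_of_finite (R := S) (Set.finite_range (X : Fin n → S))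
        rw [← Set.image_univ, Set.ncard_image_of_injective _ (X_injective (R := k)), Set.ncard_univ,
          Nat.card_fin, Set.image_univ] at h
        rw [hspan]
        exact_mod_cast h
  refine gorenstein_inv (L := L) (G := G) hu' hdim x hx
    (fun g => (M g).map (fun c => algebraMap S L (C c))) ?_ ?_ ?_ ?_
  · intro g
    funext i
    change g • algebraMap S L (X i) = _
    rw [locAction_algebraMap p hp, hX, map_sum]
    simp [mulVec, dotProduct, x, smul_eq_C_mul]
    rfl
  · intro g
    change ((M g).map ⇑((algebraMap S L).comp C)).det = 1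
    rw [← RingHom.mapMatrix_apply, ← RingHom.map_det, hdet, map_one]
  · rw [← hx, Ideal.span_le]
    rintro _ ⟨i, rfl⟩
    letI := Fintype.ofFinite G
    set q : Polynomial S := ∏ g : G, (Polynomial.X - Polynomial.C (g • (X i : S))) with hq
    have hmon : q.Monic := Polynomial.monic_prod_of_monic _ _ fun g _ => Polynomial.monic_X_sub_C _
    have hqc : ∀ j, q.coeff j ∈ B₀ := fun j => mem_inv_iff.2 fun g => by
      have h1 : q.map (MulSemiringAction.toRingHom G S g) = q := by
        rw [hq, Polynomial.map_prod]
        exact Fintype.prod_equiv (Equiv.mulLeft g) _ _ fun h => by simp [mul_smul]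
      conv_rhs => rw [← h1, Polynomial.coeff_map]
      rfl
    have hqm : q.map (constantCoeff : S →+* k) = Polynomial.X ^ q.natDegree := by
      rw [hq, Polynomial.natDegree_prod_of_monic _ _ fun g _ => Polynomial.monic_X_sub_C _,
        Polynomial.map_prod]
      simp [hcc]
    refine ⟨q.natDegree, ?_⟩
    have hev : q.eval (X i : S) = 0 := by
      rw [hq, Polynomial.eval_prod]
      exact Finset.prod_eq_zero (Finset.mem_univ 1) (by simp)
    rw [Polynomial.eval_eq_sum_range, Finset.sum_range_succ, hmon.coeff_natDegree, one_mul] at hev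
    have : x i ^ q.natDegree = -(algebraMap S L (∑ j ∈ Finset.range q.natDegree, q.coeff j * X i ^ j)) := by
      rw [eq_neg_iff_add_eq_zero, ← map_pow, ← map_add, add_comm, hev, map_zero]
    rw [this, map_sum]
    refine neg_mem (Submodule.sum_mem _ fun j hj => ?_)
    rw [map_mul]
    refine Ideal.mul_mem_right _ _ ?_
    let b : FixedPoints.subring L G := ⟨algebraMap S L (q.coeff j), mem_inv_iff.2 fun g =>
      (locAction_algebraMap p hp g _).trans (congrArg _ (mem_inv_iff.1 (hqc j) g))⟩
    refine Ideal.mem_map_of_mem (FixedPoints.subring L G).subtype ((mem_maximalIdeal_inv hu' (b := b)).2 ?_)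
    refine (IsLocalization.AtPrime.to_map_mem_maximal_iff L p _).2 ?_
    have h2 := congrArg (fun r => Polynomial.coeff r j) hqm
    simp only [Polynomial.coeff_map, Polynomial.coeff_X_pow] at h2
    rw [if_neg (Finset.mem_range.1 hj).ne] at h2
    exact h2
  · intro N hN hmem
    rw [show (fun i => x i ^ N) = ⇑(algebraMap S L) ∘ (fun i => (X i : S) ^ N) from
      funext fun i => (map_pow _ _ _).symm, Set.range_comp, ← Ideal.map_span] at hmem
    rw [show (∏ i, x i ^ (N - 1)) = algebraMap S L (∏ i, X i ^ (N - 1)) by simp [x],
      IsLocalization.algebraMap_mem_map_algebraMap_iff p.primeCompl] at hmem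
    obtain ⟨s, hs, hsm⟩ := hmem
    obtain ⟨c, hc⟩ := (Submodule.mem_span_range_iff_exists_fun S).1 hsm
    let e : Fin n →₀ ℕ := Finsupp.equivFunOnFinite.symm fun _ => N - 1
    have he : (∏ i, (X i : S) ^ (N - 1)) = monomial e 1 := by
      rw [monomial_eq, C_1, one_mul, Finsupp.prod_fintype _ _ (fun i => pow_zero _)]
      rfl
    have h3 := congrArg (coeff e) hc
    rw [he, coeff_mul_monomial', if_pos le_rfl, tsub_self, mul_one, coeff_sum] at h3
    refine hs (?_ : s ∈ p)
    rw [hpdef, RingHom.mem_ker, constantCoeff_eq, ← h3]
    refine Finset.sum_eq_zero fun i _ => ?_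
    rw [smul_eq_mul, X_pow_eq_monomial, coeff_mul_monomial', if_neg]
    intro hle
    have := hle i
    simp [e] at this
    omega

end Groth.Agent.InvGor
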